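import Cfsg.Agent.H826.RgD.Plane
import Cfsg.Agent.H826.Rg.Bridge
import Cfsg.Agent.H898.Rg.FBlin

/-!
# S3691, F-D+2: the form part of the frame `D2` (helper826)

`Fac T X Y`, `ResP hI X P`, `K = preE (eP hG eT) Y`:
* `hst` : the pointwise stabiliser of `P` in `E Q` lies in `preE X`
* `fixD2`, `invD2`, `evenD2`, `isoD2` : the fields of `D2`
-/

set_option autoImplicit false
set_option linter.unusedSectionVars false

namespace Cfsg.Agent.H826.RgD

open QuadraticMap Module Cfsg Cfsg.Geo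
open Cfsg.Agent.LieClassical.OrthCore Cfsg.Agent.LieClassical.OrthTrans
open Cfsg.Agent.ClassicalGeometry.OrthSemi Cfsg.Agent.H454.Reg Cfsg.Agent.H449.Reg
open Cfsg.Agent.H826.Rg
open Cfsg.Agent.H955 (res perp mem_perp mem_perp' nondeg_res_iff nondeg_perp finrank_perp perp_perp)
open Cfsg.Agent.H386.Rg (Aniso)
open Cfsg.Agent.H890.SpParity (fix mem_fix even_E)
open Cfsg.Agent.H964.Rg (ResP)
open Cfsg.Agent.LieClassical.OrthFinite (glEquiv)

universe u v

section abs

variable {F V : Type*} [Field F] [AddCommGroup V] [Module F V] {Q : QuadraticForm F V} [Finite F] [FiniteDimensional F V]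

/-- a nondegenerate space of dimension `≥ 3`, odd characteristic, contains an anisotropic pair -/
theorem exists_aniso_odd (h2 : (2 : F) ≠ 0) {S : Submodule F V} (hS : Nondeg (res Q S)) (h3 : 3 ≤ finrank F S) :
    ∃ u ∈ S, ∃ w ∈ S, Aniso Q u w := by
  classical
  have hfV : Finite V := Module.finite_of_finite F
  -- a singular vector of `S`
  obtain ⟨x, hx0, hx, -⟩ := Cfsg.Agent.LieClassical.OrthFinite.exists_sing_perp (Q := res Q S) (n := 0) ![] (by omega)
  obtain ⟨y, hxy⟩ := exists_hyp hS hx hx0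
  -- a nonsingular vector orthogonal to `x`, `y`
  obtain ⟨z, hxz, hyz, hz⟩ : ∃ z : S, polar (res Q S) x z = 0 ∧ polar (res Q S) y z = 0 ∧ (res Q S) z ≠ 0 := by
    by_contra hcon
    push Not at hcon
    let φ : S →ₗ[F] F × F := (polarBilin (res Q S) x).prod (polarBilin (res Q S) y)
    have h1 := φ.finrank_range_add_finrank_ker
    have h4 : finrank F (LinearMap.range φ) ≤ 2 := by
      refine (Submodule.finrank_le _).trans ?_
      rw [Module.finrank_prod, Module.finrank_self]
    have h5 : 1 ≤ finrank F (LinearMap.ker φ) := by omega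
    obtain ⟨z, hz, hz0⟩ : ∃ z ∈ LinearMap.ker φ, z ≠ 0 := by
      by_contra hc
      push Not at hc
      have : LinearMap.ker φ = ⊥ := (Submodule.eq_bot_iff _).2 hc
      rw [this, finrank_bot] at h5
      omega
    have hφ : ∀ z ∈ LinearMap.ker φ, polar (res Q S) x z = 0 ∧ polar (res Q S) y z = 0 := by
      intro z hz
      have h6 : (polar (res Q S) x z, polar (res Q S) y z) = (0 : F × F) := hz
      rw [Prod.mk_eq_zero] at h6
      exact h6
    apply hz0
    apply hS
    intro s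
    -- `s = a x + b y + s'`
    set s' := s - polar (res Q S) y s • x - polar (res Q S) x s • y with hs'
    have hs'k : s' ∈ LinearMap.ker φ := by
      rw [LinearMap.mem_ker]
      have e1 : polar (res Q S) x s' = 0 := by
        rw [hs', polar_sub_right, polar_sub_right, polar_smul_right, polar_smul_right, hxy.pair, polar_self_of_sing hxy.left]
        simp
      have e2 : polar (res Q S) y s' = 0 := by
        rw [hs', polar_sub_right, polar_sub_right, polar_smul_right, polar_smul_right, hxy.pair', polar_self_of_sing hxy.right]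
        simp
      show (polar (res Q S) x s', polar (res Q S) y s') = 0
      rw [e1, e2]
      rfl
    have hzs : polar (res Q S) z s' = 0 := by
      obtain ⟨a1, a2⟩ := hφ z hz
      obtain ⟨b1, b2⟩ := hφ s' hs'k
      have c1 := hcon z a1 a2
      have c2 := hcon s' b1 b2
      have c3 := hcon (z + s') (by rw [polar_add_right, a1, b1, add_zero]) (by rw [polar_add_right, a2, b2, add_zero])
      rw [Q_add, c1, c2, zero_add, zero_add] at c3
      exact c3
    have hs : s = s' + polar (res Q S) y s • x + polar (res Q S) x s • y := by rw [hs']; abel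
    rw [hs, polar_add_right, polar_add_right, polar_smul_right, polar_smul_right, hzs, polar_comm _ z x, polar_comm _ z y,
      (hφ z hz).1, (hφ z hz).2]
    simp
  have hchar : ringChar F ≠ 2 := by
    intro h
    apply h2
    have := ringChar.Nat.cast_ringChar (R := F)
    rw [h] at this
    exact_mod_cast this
  obtain ⟨ν, hν⟩ := FiniteField.exists_nonsquare (F := F) hchar
  have hx' : Q (x : V) = 0 := hxy.left
  have hy' : Q (y : V) = 0 := hxy.right
  have hp' : polar Q (x : V) (y : V) = 1 := hxy.pair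
  have hz' : Q (z : V) ≠ 0 := hz
  have hxz' : polar Q (x : V) (z : V) = 0 := hxz
  have hyz' : polar Q (y : V) (z : V) = 0 := hyz
  set c := -ν / Q (z : V) with hc
  have hQu : Q ((x : V) + c • (y : V)) = c := by
    rw [Q_add, QuadraticMap.map_smul, hx', hy', polar_smul_right, hp']
    simp
  have hpu : polar Q ((x : V) + c • (y : V)) (z : V) = 0 := by
    rw [polar_add_left, polar_smul_left, hxz', hyz']
    simp
  refine ⟨(x : V) + c • (y : V), S.add_mem x.2 (S.smul_mem _ y.2), (z : V), z.2, ?_⟩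
  intro a b hab
  rw [Q_lin, hQu, hpu, mul_zero, add_zero, hc] at hab
  have h6 : ν * (a * a) = (b * Q (z : V)) * (b * Q (z : V)) := by
    field_simp at hab
    linear_combination -hab
  have ha : a = 0 := by
    by_contra ha
    apply hν
    refine ⟨b * Q (z : V) / a, ?_⟩
    field_simp
    linear_combination h6
  rw [ha, mul_zero, mul_zero] at h6
  have h7 : b * Q (z : V) = 0 := mul_self_eq_zero.1 h6.symm
  exact ⟨ha, (mul_eq_zero.1 h7).resolve_right hz'⟩

theorem evenD2 (hQ : Nondeg Q) (hd : Even (finrank F V)) {k : V ≃ₗ[F] V} (hk : k ∈ E Q) :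
    Even (finrank F (LinearMap.range ((k : V →ₗ[F] V) - LinearMap.id))) := by
  have h1 := even_E hQ hk
  have h2 := LinearMap.finrank_range_add_finrank_ker ((k : V →ₗ[F] V) - LinearMap.id)
  have h3 : LinearMap.ker ((k : V →ₗ[F] V) - LinearMap.id) = fix k := by
    ext v
    rw [LinearMap.mem_ker, LinearMap.sub_apply, sub_eq_zero, mem_fix]
    rfl
  rw [h3] at h2
  rw [Nat.even_iff] at h1 hd ⊢
  omega

end abs

section

variable {ι : Type} [Fintype ι] [DecidableEq ι] {F : Type v} [Field F] [Finite F] {Q : QuadraticForm F (ι → F)}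
  {G : Type u} [Group G] {T : Subgroup G} [T.Normal] {hG : Good Q} {eT : T ≃* POmega F (⇑Q)} {X Y : Subgroup G}
  {hI : Ind (eP hG eT)} {P : Submodule F (ι → F)}

/-- **the pointwise stabiliser of `P` in `Ω(Q)` lies in `X`** -/
theorem hst (hn : 7 ≤ Fintype.card ι) (hR : ResP hI X P) {g : (ι → F) ≃ₗ[F] (ι → F)} (hg : g ∈ E Q)
    (hgP : ∀ x ∈ P, g x = x) : g ∈ preE (eP hG eT) X := by
  have h1 : SgU Q (perp Q P) ≤ preE (eP hG eT) X := by
    refine SgU_le fun u w hu hw huP hwP => mem_preE_iff'.2 ?_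
    exact hR.sieg u w hu hw huP hwP
  exact h1 (stab_plane hG.nondeg (by rwa [Module.finrank_fintype_fun_eq_card]) hR.rank hR.aniso hg hgP)

variable [Finite G]

/-- (F) -/
theorem fixD2 (hn : 7 ≤ Fintype.card ι) (hf : Fac T X Y) (hR : ResP hI X P) {k : (ι → F) ≃ₗ[F] (ι → F)}
    (hk : k ∈ preE (eP hG eT) Y) (hk1 : k ≠ 1) {u w : ι → F} (h : Aniso Q u w) (hu : k u = u) (hw : k w = w) : False := by
  obtain ⟨u', w', hP, hu', hw', huw'⟩ := exists_iso_pair hR.rank hR.aniso h
  obtain ⟨g, hg, hgu, hgw⟩ := trans_aniso (Q := Q) hG.nondeg (by rw [Module.finrank_fintype_fun_eq_card]; omega) h hu'.symm hw'.symm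
    huw'.symm
  have hkE := preE_le_E hk
  have h1 : g * k * g⁻¹ ∈ E Q := (E Q).mul_mem ((E Q).mul_mem hg hkE) ((E Q).inv_mem hg)
  have hfixu : (g * k * g⁻¹) u' = u' := by
    show g (k (g.symm u')) = u'
    have h3 : g.symm u' = u := by rw [LinearEquiv.symm_apply_eq, hgu]
    rw [h3, hu, hgu]
  have hfixw : (g * k * g⁻¹) w' = w' := by
    show g (k (g.symm w')) = w'
    have h3 : g.symm w' = w := by rw [LinearEquiv.symm_apply_eq, hgw]
    rw [h3, hw, hgw]
  have h2 : ∀ x ∈ P, (g * k * g⁻¹) x = x := by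
    intro x hx
    rw [hP] at hx
    obtain ⟨a, b, rfl⟩ := Submodule.mem_span_pair.1 hx
    rw [map_add, map_smul, map_smul, hfixu, hfixw]
  have h3 := hst hn hR h1 h2
  rw [mem_preE h1] at h3
  have h4 := (mem_preE hkE).1 hk
  set e := eP hG eT with he
  set t := (e.symm (QuotientGroup.mk ⟨k, hkE⟩) : T) with ht
  set s := (e.symm (QuotientGroup.mk ⟨g, hg⟩) : T) with hs'
  have h5 : (e.symm (QuotientGroup.mk ⟨g * k * g⁻¹, h1⟩) : T) = s * t * s⁻¹ := by
    have e1 : (⟨g * k * g⁻¹, h1⟩ : ↥(E Q)) = ⟨g, hg⟩ * ⟨k, hkE⟩ * ⟨g, hg⟩⁻¹ := rfl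
    rw [e1, QuotientGroup.mk_mul, QuotientGroup.mk_mul, QuotientGroup.mk_inv, map_mul, map_mul, map_inv]
  rw [h5] at h3
  have h6 : (t : G) = 1 := hf.symm.not_conj h4 (s : G) h3
  have h7 : t = 1 := Subtype.ext h6
  have h8 : (QuotientGroup.mk ⟨k, hkE⟩ : ↥(E Q) ⧸ Subgroup.center ↥(E Q)) = 1 := by
    rw [← e.apply_symm_apply (QuotientGroup.mk ⟨k, hkE⟩), ← ht, h7, map_one]
  rw [QuotientGroup.eq_one_iff] at h8
  have hu0 : u ≠ 0 := by
    rintro rfl
    exact one_ne_zero (h 1 0 (by simp)).1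
  exact hk1 (eq_one_of_central hG hkE h8 hu0 hu)

theorem img_inf (M : Gam Q) (A B : Submodule F (ι → F)) : img M A ⊓ img M B = img M (A ⊓ B) := by
  ext w
  constructor
  · rintro ⟨⟨a, ha, rfl⟩, b, hb, hab⟩
    have : b = a := M.1.injective hab
    rw [this] at hb
    exact ⟨a, ⟨ha, hb⟩, rfl⟩
  · rintro ⟨a, ⟨ha, hb⟩, rfl⟩
    exact ⟨⟨a, ha, rfl⟩, a, hb, rfl⟩

theorem img_eq_bot (M : Gam Q) (A : Submodule F (ι → F)) : img M A = ⊥ ↔ A = ⊥ := by
  rw [Submodule.eq_bot_iff, Submodule.eq_bot_iff]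
  obtain ⟨σ, c, hS⟩ := M.2
  constructor
  · intro h a ha
    have h1 := h (M.1 a) ⟨a, ha, rfl⟩
    have h2 : M.1 a = M.1 0 := by rw [h1, hS.map_zero]
    exact M.1.injective h2
  · rintro h _ ⟨a, ha, rfl⟩
    rw [h a ha, hS.map_zero]

/-- the involutions -/
theorem invD2 (hn : 7 ≤ Fintype.card ι) (he : Even (Fintype.card ι)) (hf : Fac T X Y) (hR : ResP hI X P) (h2 : (2 : F) ≠ 0)
    {t : (ι → F) ≃ₗ[F] (ι → F)} (ht : t ∈ preE (eP hG eT) Y) (htt : t * t = 1) (ht1 : t ≠ 1) (htm : ∃ v, t v ≠ -v) :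
    ∃ s ∈ preE (eP hG eT) Y, s * s = 1 ∧ s ≠ 1 ∧ s ≠ t ∧ ∃ v, s v ≠ -v := by
  by_contra hcon
  push Not at hcon
  have hfr : finrank F (ι → F) = Fintype.card ι := Module.finrank_fintype_fun_eq_card F
  have htE := preE_le_E ht
  have htO := E_le_O htE
  have htt' : ∀ v, t (t v) = v := fun v => congrArg (fun z : (ι → F) ≃ₗ[F] (ι → F) => z v) htt
  set S := fix t with hSdef
  -- `S` is nondegenerate
  have hSnd : Nondeg (res Q S) := by
    rw [nondeg_res_iff]
    intro x hx hxy
    have h1 := H898.Rg.fix_inf_perp hG.nondeg htO (n := 2) (by rw [pow_two]; exact htt) (by exact_mod_cast h2)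
    rw [Submodule.eq_bot_iff] at h1
    apply h1 x
    refine ⟨hx, ?_⟩
    intro y hy
    rw [polarBilin_apply_apply, polar_comm]
    exact hxy y hy
  have hS0 : S ≠ ⊥ := by
    obtain ⟨v, hv⟩ := htm
    intro h0
    have h1 : t v + v ∈ S := by
      rw [hSdef, mem_fix, map_add, htt', add_comm]
    rw [h0, Submodule.mem_bot] at h1
    exact hv (eq_neg_of_add_eq_zero_left h1)
  have hSe : Even (finrank F S) := by
    have h1 := even_E hG.nondeg htE
    rw [hfr, ← hSdef] at h1
    rw [Nat.even_iff] at h1 he ⊢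
    omega
  have hS2 : finrank F S = 2 := by
    have h1 : finrank F S ≤ 2 := by
      by_contra h3
      obtain ⟨u, hu, w, hw, huw⟩ := exists_aniso_odd h2 hSnd (by omega)
      exact fixD2 hn hf hR ht ht1 huw (mem_fix.1 hu) (mem_fix.1 hw)
    have h3 : finrank F S ≠ 0 := fun h0 => hS0 (Submodule.finrank_eq_zero.1 h0)
    rw [Nat.even_iff] at hSe
    omega
  -- `S` contains a singular vector
  obtain ⟨x, hxS, hx, hx0⟩ : ∃ x ∈ S, Q x = 0 ∧ x ≠ 0 := by
    by_contra hno
    push Not at hno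
    obtain ⟨b⟩ : Nonempty (Basis (Fin 2) F S) := ⟨Module.finBasisOfFinrankEq F S hS2⟩
    refine fixD2 hn hf hR ht ht1 (u := (b 0 : S)) (w := (b 1 : S)) ?_ (mem_fix.1 (b 0).2) (mem_fix.1 (b 1).2)
    intro a c hac
    have h1 := hno _ (S.add_mem (S.smul_mem a (b 0).2) (S.smul_mem c (b 1).2)) hac
    have h3 : a • b 0 + c • b 1 = 0 := Subtype.ext h1
    exact LinearIndependent.pair_iff.1 (show LinearIndependent F ![b 0, b 1] by
      have := b.linearIndependent
      have e : (⇑b : Fin 2 → S) = ![b 0, b 1] := by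
        funext i; fin_cases i <;> rfl
      rwa [e] at this) a c h3
  obtain ⟨y, hy⟩ := exists_hyp hSnd (show (res Q S) ⟨x, hxS⟩ = 0 from hx) (fun h0 => hx0 (congrArg Subtype.val h0))
  have hyp : Hyp Q x (y : ι → F) := ⟨hy.left, hy.right, hy.pair⟩
  have hSspan : S = Submodule.span F {x, (y : ι → F)} := by
    symm
    apply Submodule.eq_of_le_of_finrank_eq
    · rw [Submodule.span_le]
      rintro _ (rfl | rfl)
      · exact hxS
      · exact y.2
    · have hli : LinearIndependent F ![x, (y : ι → F)] := by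
        rw [LinearIndependent.pair_iff]
        intro a b hab
        have h1 := congrArg (polar Q x) hab
        have h3 := congrArg (polar Q (y : ι → F)) hab
        rw [polar_add_right, polar_smul_right, polar_smul_right, polar_self_of_sing hyp.left, hyp.pair, polar_zero_right] at h1
        rw [polar_add_right, polar_smul_right, polar_smul_right, polar_self_of_sing hyp.right, hyp.pair', polar_zero_right] at h3
        simp only [smul_eq_mul, mul_zero, mul_one, zero_add, add_zero] at h1 h3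
        exact ⟨h3, h1⟩
      have h1 := finrank_span_eq_card hli
      rw [Matrix.range_cons_cons_empty, Fintype.card_fin] at h1
      rw [h1, hS2]
  -- `Y` fixes `S`
  have hY : ∀ z ∈ Y, act hI z S = S := by
    intro z hz
    obtain ⟨M, hM⟩ := hI z
    rw [act_of hG hI hM]
    have hMem : M ∈ Gh (eP hG eT) Y := ⟨z, hz, hM.symm⟩
    have hc : conjLin M t ∈ preE (eP hG eT) Y := by
      have h1 := conjLin_mem_E M htE
      have h3 : lg ⟨conjLin M t, h1⟩ = M * lg ⟨t, htE⟩ * M⁻¹ := rfl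
      refine (lg_mem_iff hf.cent ⟨conjLin M t, h1⟩).1 ?_
      rw [h3]
      exact (Gh (eP hG eT) Y).mul_mem ((Gh (eP hG eT) Y).mul_mem hMem ((lg_mem_iff hf.cent ⟨t, htE⟩).2 ht))
        ((Gh (eP hG eT) Y).inv_mem hMem)
    have happ : ∀ v, conjLin M t (M.1 v) = M.1 (t v) := fun v => conjLin_apply' M t v
    have hcc : conjLin M t * conjLin M t = 1 := by rw [← conjLin_mul, htt, conjLin_one]
    obtain ⟨σ, c, hS⟩ := M.2
    have hct : conjLin M t = t := by
      by_contra hne
      have hc1 : conjLin M t ≠ 1 := by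
        intro h1
        apply ht1
        ext1 v
        apply M.1.injective
        rw [← happ, h1]
        rfl
      have h1 := hcon _ hc hcc hc1 hne
      obtain ⟨v, hv⟩ := htm
      apply hv
      apply M.1.injective
      have hneg : M.1 (-v) = -(M.1 v) := by
        have h3 := hS.smul (-1) v
        rwa [map_neg, map_one, neg_smul, neg_smul, one_smul, one_smul] at h3
      rw [← happ, h1, hneg]
    refine Submodule.eq_of_le_of_finrank_eq ?_ (finrank_img M _)
    rintro _ ⟨w, hw, rfl⟩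
    rw [hSdef, mem_fix]
    have h1 := happ w
    rw [hct, mem_fix.1 hw] at h1
    exact h1
  -- all images of `S` under `E Q` meet `P` in the same way
  have key : ∀ g, g ∈ E Q → (S.map (g : (ι → F) →ₗ[F] (ι → F)) ⊓ P = ⊥ ↔ S ⊓ P = ⊥) := by
    intro g hg
    obtain ⟨a, ha, b, hb, hab⟩ := hf.exists_mul (((eP hG eT).symm (QuotientGroup.mk ⟨g, hg⟩) : T) : G)
    have h1 : act hI (((eP hG eT).symm (QuotientGroup.mk ⟨g, hg⟩) : T) : G) S = S.map (g : (ι → F) →ₗ[F] (ι → F)) :=
      act_T hG hI (x := ⟨g, hg⟩) (by rw [MulEquiv.apply_symm_apply]) _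
    rw [← hab, act_mul hG, hY b hb] at h1
    have h3 := hR.fix a ha
    obtain ⟨M, hM⟩ := hI a
    rw [act_of hG hI hM] at h1 h3
    rw [← h1]
    have h4 : img M S ⊓ P = img M (S ⊓ P) := by
      conv_lhs => rw [← h3]
      rw [img_inf]
    rw [h4, img_eq_bot]
  have hPnd := nondeg_of_aniso hR.rank hR.aniso
  -- first image: orthogonal to `P`
  have hfrP := finrank_perp hG.nondeg P
  rw [hR.rank, hfr] at hfrP
  have hGP : Good (res Q (perp Q P)) :=
    Cfsg.Agent.LieClassical.OrthFinite.good_of_finite (nondeg_perp hG.nondeg hPnd) (by omega)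
  obtain ⟨x', y', hxy'⟩ := hGP.exists_hyp
  have hyp' : Hyp Q (x' : ι → F) (y' : ι → F) := ⟨hxy'.left, hxy'.right, hxy'.pair⟩
  obtain ⟨g1, hg1, hg1x, hg1y⟩ := hG.trans_hyp hyp hyp'
  have h1 : S ⊓ P = ⊥ := by
    rw [← key g1 hg1, Submodule.eq_bot_iff]
    rintro z ⟨⟨s, hs, rfl⟩, hz⟩
    have hs' : s ∈ S := hs
    rw [hSspan] at hs'
    obtain ⟨a, b, rfl⟩ := Submodule.mem_span_pair.1 hs'
    have h3 : (g1 : (ι → F) →ₗ[F] (ι → F)) (a • x + b • (y : ι → F)) ∈ perp Q P := by
      show g1 (a • x + b • (y : ι → F)) ∈ _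
      rw [map_add, map_smul, map_smul, hg1x, hg1y]
      exact (perp Q P).add_mem ((perp Q P).smul_mem _ x'.2) ((perp Q P).smul_mem _ y'.2)
    exact (nondeg_res_iff.1 hPnd) _ hz fun w hw => by
      rw [polar_comm]
      exact (mem_perp.1 h3) w hw
  -- second image
  obtain ⟨u, hu, hu0⟩ : ∃ u ∈ P, u ≠ 0 := by
    by_contra hno
    push Not at hno
    have h3 : P = ⊥ := (Submodule.eq_bot_iff _).2 hno
    have h4 := hR.rank
    rw [h3, finrank_bot] at h4
    omega
  set s := x + Q u • (y : ι → F) with hs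
  have hsQ : Q s = Q u := by
    rw [hs, Q_add, QuadraticMap.map_smul, hyp.left, hyp.right, polar_smul_right, hyp.pair]
    simp
  have hs0 : s ≠ 0 := by
    intro h0
    rw [h0, QuadraticMap.map_zero] at hsQ
    exact hu0 (hR.aniso u hu hsQ.symm)
  obtain ⟨g2, hg2, hg2s⟩ := hG.trans_norm hs0 hu0 hsQ
  have h3 := (key g2 hg2).2 h1
  apply hu0
  rw [Submodule.eq_bot_iff] at h3
  exact h3 u ⟨⟨s, S.add_mem hxS (S.smul_mem _ y.2), hg2s⟩, hu⟩

/-- **the frame `D2`** from the form part and the numbers -/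
theorem d2_of (hf : Fac T X Y) (hR : ResP hI X P) {p f m : ℕ} (hp : p.Prime) (hf1 : 1 ≤ f) (hF : Nat.card F = p ^ f)
    (hι : Fintype.card ι = 2 * m) (hm : 5 ≤ m) (hS : H386.Rg.SzD m (p ^ f))
    (hplus : ∃ W : Submodule F (ι → F), (∀ w ∈ W, Q w = 0) ∧ finrank F W = m)
    (card_ge : p ^ (f * (2 * m - 2)) * (p ^ (f * m) - 1) * (p ^ (f * (m - 1)) - 1) ≤
      2 * (p ^ f + 1) * ((if p = 2 then 2 else 8) * f) * Nat.card (preE (eP hG eT) Y))
    (card_p : f * (2 * m - 2) ≤ (Nat.card (preE (eP hG eT) Y)).factorization p +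
      (if p = 2 then (4 * f).factorization p else f.factorization p))
    (card_dvd : Nat.card (preE (eP hG eT) Y) ∣ 2 * (p ^ (f * (2 * m - 2)) * (p ^ (f * m) - 1) * (p ^ (f * (m - 1)) - 1)))
    (card_dvd2 : p = 2 → Nat.card (preE (eP hG eT) Y) ∣ p ^ (f * (2 * m - 2)) * (p ^ (f * m) - 1) * (p ^ (f * (m - 1)) - 1))
    (rdvd : ∀ r : ℕ, r.Prime → (orderOf (p : ZMod r) = f * m ∨ orderOf (p : ZMod r) = f * (m - 1)) →
      r ∣ Nat.card (preE (eP hG eT) Y)) : H386.Rg.D2 Q p f m (preE (eP hG eT) Y) where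
  hp := hp
  hf := hf1
  hF := hF
  hm := hm
  size := hS
  dim := by rw [Module.finrank_fintype_fun_eq_card, hι]
  nd := hG.nondeg
  plus := hplus
  iso := fun k hk => preE_le_O hk
  even := fun k hk => evenD2 hG.nondeg (by rw [Module.finrank_fintype_fun_eq_card, hι]; exact even_two_mul m) (preE_le_E hk)
  fix := fun k hk hk1 u w h hu hw => fixD2 (by omega) hf hR hk hk1 h hu hw
  inv := fun hp2 t ht htt ht1 htm => by
    have h2 : (2 : F) ≠ 0 := by
      intro h0
      have : Fact p.Prime := ⟨hp⟩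
      have := Fintype.ofFinite F
      have hch : CharP F p := by
        obtain ⟨q, hq⟩ := CharP.exists F
        have hqp : q.Prime := CharP.char_is_prime F q
        have h3 : q ∣ Nat.card F := by
          obtain ⟨n, hqp', hn⟩ := FiniteField.card F q
          rw [Nat.card_eq_fintype_card, hn]
          exact dvd_pow_self q n.ne_zero
        rw [hF] at h3
        have h4 := (Nat.prime_dvd_prime_iff_eq hqp hp).1 (hqp.dvd_of_dvd_pow h3)
        rwa [h4] at hq
      have h3 : ((2 : ℕ) : F) = 0 := by exact_mod_cast h0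
      rw [CharP.cast_eq_zero_iff F p] at h3
      exact hp2 ((Nat.prime_dvd_prime_iff_eq hp Nat.prime_two).1 h3)
    exact invD2 (by omega) (by rw [hι]; exact even_two_mul m) hf hR h2 ht htt ht1 htm
  card_ge := card_ge
  card_p := card_p
  card_dvd := card_dvd
  card_dvd2 := card_dvd2
  rdvd := rdvd

end

end Cfsg.Agent.H826.RgD
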